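import Cfsg.Agent.H817.DPi.Def
import Cfsg.Agent.H22.DPi.Lift
import Cfsg.Agent.Lib.NilpotentCoprime

/-!
# A subgroup normalised by `P` and `K` with nilpotent Hall subgroups modulo the centre (helper22)
-/

set_option autoImplicit false

namespace Cfsg.Agent.H22.DPi

open Subgroup Cfsg Cfsg.Agent.H988.CPi Cfsg.Agent.H571.RV Cfsg.Agent.H817.DPi

universe u

section hall

variable {π : Set ℕ} {G : Type u} [Group G] [Finite G]

/-- Hall subgroups of a normalised subgroup -/
theorem hall_inf {P M : Subgroup G} (hP : IsPiHall π P) (hPM : P ≤ normalizer (M : Set G)) :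
    IsPiHall π (P.subgroupOf M) := by
  obtain ⟨N, hN⟩ : ∃ N, N = normalizer (M : Set G) := ⟨_, rfl⟩
  rw [← hN] at hPM
  have hMN : M ≤ N := by rw [hN]; exact le_normalizer
  have h1 : IsPiHall π (P.subgroupOf N) := by
    refine ⟨?_, ?_⟩
    · exact PiN.of_dvd hP.1 (card_comap_dvd_of_injective P N.subtype N.subtype_injective)
    · exact PiN'.of_dvd hP.2 (relIndex_dvd_index_of_le hPM)
  have h2 : (M.subgroupOf N).Normal := by
    rw [hN]
    exact normal_in_normalizer
  have h3 := isPiHall_subgroupOf h1 (M.subgroupOf N)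
  refine ⟨?_, ?_⟩
  · exact PiN.of_dvd hP.1 (card_comap_dvd_of_injective P M.subtype M.subtype_injective)
  · have h4 : ((P.subgroupOf N).subgroupOf (M.subgroupOf N)).index = (P.subgroupOf M).index :=
      relIndex_subgroupOf hMN
    rw [← h4]
    exact h3.2

/-- **The core of the argument.** -/
theorem comm_of_core {P M : Subgroup G} {K : Subgroup (MulAut G)} (hP : IsPiHall π P) (hI : IH π P K) (hM : M ≠ ⊤)
    (hPM : P ≤ normalizer (M : Set G)) (hKM : K ≤ stab M) (hs : IsSimpleGroup (↥M ⧸ center ↥M))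
    (hna : ¬ IsMulCommutative (↥M ⧸ center ↥M))
    (hX : Cls π (↥M ⧸ center ↥M) → ∀ P' : Subgroup (↥M ⧸ center ↥M), IsPiHall π P' → Group.IsNilpotent P')
    {a b : G} (ha : a ∈ P) (hb : b ∈ P) (haM : a ∈ M) (hbM : b ∈ M) (hab : (orderOf a).Coprime (orderOf b)) :
    a * b = b * a := by
  have h1 := hX (hI M hM hPM hKM _ hna (QuotientGroup.mk' (center ↥M)) (QuotientGroup.mk'_surjective _))
  have h2 := hall_inf hP hPM
  have h3 := h1 _ (isPiHall_map_mk h2 (center ↥M))
  let f : ↥(P.subgroupOf M) →* ↥((P.subgroupOf M).map (QuotientGroup.mk' (center ↥M))) :=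
    (QuotientGroup.mk' (center ↥M)).subgroupMap (P.subgroupOf M)
  have h4 : Group.IsNilpotent ↥(P.subgroupOf M) := by
    refine @Subgroup.isNilpotent_of_ker_le_center _ _ _ _ f ?_ h3
    intro x hx
    have h5 : QuotientGroup.mk' (center ↥M) (x : ↥M) = 1 := congrArg Subtype.val hx
    have h6 : (x : ↥M) ∈ center ↥M := (QuotientGroup.eq_one_iff _).1 h5
    rw [mem_center_iff] at h6 ⊢
    intro y
    exact Subtype.ext (h6 y)
  obtain ⟨a', ha'⟩ : ∃ a' : ↥(P.subgroupOf M), ((a' : ↥M) : G) = a := ⟨⟨⟨a, haM⟩, ha⟩, rfl⟩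
  obtain ⟨b', hb'⟩ : ∃ b' : ↥(P.subgroupOf M), ((b' : ↥M) : G) = b := ⟨⟨⟨b, hbM⟩, hb⟩, rfl⟩
  have h5 : a' ^ orderOf a = 1 := by
    apply Subtype.ext
    apply Subtype.ext
    show ((a' : ↥M) : G) ^ orderOf a = 1
    rw [ha', pow_orderOf_eq_one]
  have h6 : b' ^ orderOf b = 1 := by
    apply Subtype.ext
    apply Subtype.ext
    show ((b' : ↥M) : G) ^ orderOf b = 1
    rw [hb', pow_orderOf_eq_one]
  have h7 := Cfsg.Agent.Lib.NilpotentCoprime.commute_of_pow_eq_one hab h5 h6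
  have h8 := congrArg (fun x : ↥(P.subgroupOf M) => ((x : ↥M) : G)) h7.eq
  rw [← ha', ← hb']
  exact h8

end hall

end Cfsg.Agent.H22.DPi
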