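import Mathlib
import Cfsg.Agent.GenOrth.Normal

/-!
# Isometries commuting with the Siegel elements of a nondegenerate subspace of dimension at least three (helper22)

`smul_of_comm` : such an isometry acts as `1` or as `-1` on the subspace.
-/

set_option autoImplicit false

namespace Cfsg.Agent.H22.DPi

open QuadraticMap
open Cfsg.Agent.LieClassical.OrthCore Cfsg.Agent.LieClassical.OrthTrans Cfsg.Agent.GenOrth

variable {F V : Type*} [Field F] [AddCommGroup V] [Module F V] {Q : QuadraticForm F V}

theorem exists_nonsing_perp [Module.Finite F V] (hQ : Nondeg Q) (hd : 3 ≤ Module.finrank F V) {u v : V}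
    (h : Hyp Q u v) : ∃ a, polar Q u a = 0 ∧ polar Q v a = 0 ∧ Q a ≠ 0 := by
  have hs := split_of_hyp h
  have h1 := finrank_Comp hs
  have h2 := nondeg_restr hQ hs
  by_contra hno
  push Not at hno
  have h3 : ∀ w : Comp (polarBilin Q v) (polarBilin Q u), Q (w : V) = 0 := by
    intro w
    obtain ⟨hw1, hw2⟩ := mem_Comp.1 w.2
    exact hno w hw2 hw1
  have h4 : ∀ w : Comp (polarBilin Q v) (polarBilin Q u), w = 0 := by
    intro w
    apply h2
    intro w'
    rw [polar_restr]
    show Q (w + w') - Q w - Q w' = 0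
    have h5 := h3 (w + w')
    rw [Submodule.coe_add] at h5
    rw [h5, h3, h3]
    ring
  have h5 : Subsingleton (Comp (polarBilin Q v) (polarBilin Q u)) := ⟨fun a b => by rw [h4 a, h4 b]⟩
  have h6 : Module.finrank F (Comp (polarBilin Q v) (polarBilin Q u)) = 0 := Module.finrank_zero_of_subsingleton
  omega

variable {W : Submodule F V}

/-- An isometry preserving every singular line of `W` acts as `1` or `-1` on `W`. -/
theorem eq_of_singular_lines [Finite F] [Module.Finite F W] (hQ : Nondeg (Q.comp W.subtype))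
    (hd : 3 ≤ Module.finrank F W) {z : V ≃ₗ[F] V} (hzO : z ∈ O Q)
    (hz : ∀ u ∈ W, Q u = 0 → ∃ c : F, z u = c • u) :
    ∃ c : F, (c = 1 ∨ c = -1) ∧ ∀ x ∈ W, z x = c • x := by
  have hpol : ∀ x y, polar Q (z x) (z y) = polar Q x y := polar_map hzO
  obtain ⟨u₀, v₀, h₀⟩ := exists_hyp_of_nondeg hQ hd
  obtain ⟨a₀, hua₀, hva₀, ha₀⟩ := exists_nonsing_perp hQ hd h₀
  obtain ⟨u, huW⟩ := u₀
  obtain ⟨v, hvW⟩ := v₀
  obtain ⟨a, haW⟩ := a₀
  have hu : Q u = 0 := h₀.left
  have hv : Q v = 0 := h₀.right
  have huv : polar Q u v = 1 := h₀.pair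
  have hua : polar Q u a = 0 := hua₀
  have hva : polar Q v a = 0 := hva₀
  have ha : Q a ≠ 0 := ha₀
  obtain ⟨l, hl⟩ := hz u huW hu
  obtain ⟨m, hm⟩ := hz v hvW hv
  have hvu : polar Q v u = 1 := by rw [polar_comm]; exact huv
  have huu : polar Q u u = 0 := by rw [polar_self', hu, mul_zero]
  have hvv : polar Q v v = 0 := by rw [polar_self', hv, mul_zero]
  have hlm : l * m = 1 := by
    have h := hpol u v
    rw [hl, hm, polar_smul_left, polar_smul_right, huv] at h
    simpa using h
  have hl0 : l ≠ 0 := left_ne_zero_of_mul_eq_one hlm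
  have hm0 : m ≠ 0 := right_ne_zero_of_mul_eq_one hlm
  -- action on the orthogonal complement
  have hW : ∀ w ∈ W, polar Q u w = 0 → polar Q v w = 0 → z w = l • w ∧ Q w * m = Q w * l := by
    intro w hwW huw hvw
    have hwu : polar Q w u = 0 := by rw [polar_comm]; exact huw
    have hwv : polar Q w v = 0 := by rw [polar_comm]; exact hvw
    have hsing : Q (u + w + (-Q w) • v) = 0 := by
      rw [Q_add, Q_add, QuadraticMap.map_smul, hu, hv, huw, polar_smul_right, polar_add_left,
        huv, hwv]
      simp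
    obtain ⟨n, hn⟩ := hz _ (W.add_mem (W.add_mem huW hwW) (W.smul_mem _ hvW)) hsing
    rw [map_add, map_add, map_smul, hl, hm] at hn
    have huzw : polar Q u (z w) = 0 := by
      have h := hpol u w
      rw [hl, polar_smul_left, huw, smul_eq_mul] at h
      exact (mul_eq_zero.1 h).resolve_left hl0
    have hvzw : polar Q v (z w) = 0 := by
      have h := hpol v w
      rw [hm, polar_smul_left, hvw, smul_eq_mul] at h
      exact (mul_eq_zero.1 h).resolve_left hm0
    have h1 := congrArg (polar Q v) hn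
    simp only [polar_add_right, polar_smul_right, hvu, hvw, hvv, hvzw, smul_eq_mul] at h1
    have h2 := congrArg (polar Q u) hn
    simp only [polar_add_right, polar_smul_right, huu, huw, huv, huzw, smul_eq_mul] at h2
    have hnl : n = l := by linear_combination -h1
    have h3 : Q w * m = Q w * l := by rw [← hnl]; linear_combination -h2
    refine ⟨?_, h3⟩
    rw [hnl] at hn
    have h4 : z w = l • (u + w + (-Q w) • v) - l • u - (-Q w) • m • v := by
      rw [← hn]; module
    rw [h4]
    have h5 : (-Q w) • m • v = (-(Q w * l)) • v := by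
      rw [← h3, smul_smul]; congr 1; ring
    rw [h5]
    module
  have hml : m = l := mul_left_cancel₀ ha (hW a haW hua hva).2
  rw [hml] at hlm hm
  refine ⟨l, ?_, ?_⟩
  · exact mul_self_eq_one_iff.1 hlm
  · intro x hxW
    have h1 : polar Q u (x - polar Q u x • v - polar Q v x • u) = 0 ∧
        polar Q v (x - polar Q u x • v - polar Q v x • u) = 0 := by
      simp only [polar_sub_right, polar_smul_right, huu, hvv, huv, hvu, smul_eq_mul]
      constructor <;> ring
    have h2 := (hW _ (W.sub_mem (W.sub_mem hxW (W.smul_mem _ hvW)) (W.smul_mem _ huW)) h1.1 h1.2).1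
    rw [map_sub, map_sub, map_smul, map_smul, hl, hm] at h2
    have h3 : z x = l • (x - polar Q u x • v - polar Q v x • u) + polar Q u x • l • v
        + polar Q v x • l • u := by
      rw [← h2]; module
    rw [h3]
    module

/-- An isometry commuting with the Siegel elements of `W` preserves every singular line of `W`. -/
theorem exists_smul_of_comm [Finite F] [Module.Finite F W] (hQ : Nondeg (Q.comp W.subtype))
    (hd : 3 ≤ Module.finrank F W) {z : V ≃ₗ[F] V} (hzO : z ∈ O Q)
    (hz : ∀ u ∈ W, ∀ w ∈ W, ∀ (hu : Q u = 0) (hw : polar Q u w = 0),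
      z * siegel Q u w hu hw = siegel Q u w hu hw * z) (u : V) (huW : u ∈ W)
    (hu : Q u = 0) : ∃ c : F, z u = c • u := by
  by_cases hu0 : u = 0
  · exact ⟨0, by rw [hu0, map_zero, smul_zero]⟩
  obtain ⟨v₀, h₀⟩ := hyp_of_sing (x := (⟨u, huW⟩ : W)) hQ (fun h => hu0 (congrArg Subtype.val h)) hu
  obtain ⟨a₀, hua₀, hva₀, ha₀⟩ := exists_nonsing_perp hQ hd h₀
  obtain ⟨v, hvW⟩ := v₀
  obtain ⟨a, haW⟩ := a₀
  have hv : Q v = 0 := h₀.right
  have huv : polar Q u v = 1 := h₀.pair
  have hua : polar Q u a = 0 := hua₀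
  have hva : polar Q v a = 0 := hva₀
  have ha : Q a ≠ 0 := ha₀
  have h1 := hz u huW a haW hu hua
  have h1' : ∀ x, z (x + polar Q u x • a - polar Q a x • u - (Q a * polar Q u x) • u)
      = z x + polar Q u (z x) • a - polar Q a (z x) • u - (Q a * polar Q u (z x)) • u := by
    intro x
    have h : z (siegel Q u a hu hua x) = siegel Q u a hu hua (z x) := congrArg (fun g : V ≃ₗ[F] V => g x) h1
    rw [siegel_apply, siegel_apply] at h
    exact h
  obtain ⟨u', hu'⟩ : ∃ u', u' = z u := ⟨_, rfl⟩
  have hQu' : Q u' = 0 := by rw [hu', mem_O.1 hzO, hu]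
  obtain ⟨t, ht1, ht2⟩ : ∃ t, polar Q u t = 0 ∧ polar Q a t ≠ 0 := by
    by_contra hcon
    push Not at hcon
    have h1 : (⟨a - polar Q a v • u, W.sub_mem haW (W.smul_mem _ huW)⟩ : W) = 0 := by
      apply hQ
      intro x
      show polar Q (a - polar Q a v • u) x = 0
      have h2 := hcon (x - polar Q u x • v) (by
        rw [polar_sub_right, polar_smul_right, huv, smul_eq_mul, mul_one, sub_self])
      rw [polar_sub_right, polar_smul_right, smul_eq_mul] at h2
      rw [polar_sub_left, polar_smul_left, smul_eq_mul]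
      linear_combination h2
    apply ha
    have h3 : a - polar Q a v • u = 0 := congrArg Subtype.val h1
    rw [sub_eq_zero.1 h3, QuadraticMap.map_smul, hu, smul_zero]
  have h2 := h1' t
  rw [map_sub, map_sub, map_add, map_smul, map_smul, map_smul, ht1, ← hu'] at h2
  -- `u'` is a combination of `a` and `u`
  obtain ⟨p, hp⟩ : ∃ p, p = polar Q u (z t) := ⟨_, rfl⟩
  obtain ⟨s, hs⟩ : ∃ s, s = polar Q a (z t) := ⟨_, rfl⟩
  rw [← hp, ← hs] at h2
  have h3 : (-(polar Q a t)) • u' = p • a + (-s - Q a * p) • u := by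
    have : z t + (0 : F) • z a - polar Q a t • u' - (Q a * 0) • u'
        = z t + (-(polar Q a t)) • u' := by module
    rw [this] at h2
    have h4 : (-(polar Q a t)) • u' = (z t + (-(polar Q a t)) • u') - z t := by abel
    rw [h4, h2]
    module
  have hau : polar Q a u = 0 := by rw [polar_comm]; exact hua
  have h4 : Q ((-(polar Q a t)) • u') = 0 := by
    rw [QuadraticMap.map_smul, hQu', smul_zero]
  rw [h3, Q_add, QuadraticMap.map_smul, QuadraticMap.map_smul, hu, polar_smul_left,
    polar_smul_right, hau, smul_zero, smul_zero, smul_zero, add_zero, add_zero, smul_eq_mul] at h4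
  have hp0 : p = 0 := by
    rcases mul_eq_zero.1 h4 with h | h
    · exact mul_self_eq_zero.1 h
    · exact absurd h ha
  rw [hp0, zero_smul, zero_add] at h3
  refine ⟨(-(polar Q a t))⁻¹ * (-s - Q a * 0), ?_⟩
  rw [mul_smul, ← h3, smul_smul, inv_mul_cancel₀ (neg_ne_zero.2 ht2), one_smul, hu']

/-- **An isometry commuting with the Siegel elements of `W` acts as `1` or `-1` on `W`.** -/
theorem smul_of_comm [Finite F] [Module.Finite F W] (hQ : Nondeg (Q.comp W.subtype))
    (hd : 3 ≤ Module.finrank F W) {z : V ≃ₗ[F] V} (hzO : z ∈ O Q)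
    (hz : ∀ u ∈ W, ∀ w ∈ W, ∀ (hu : Q u = 0) (hw : polar Q u w = 0),
      z * siegel Q u w hu hw = siegel Q u w hu hw * z) :
    ∃ c : F, (c = 1 ∨ c = -1) ∧ ∀ x ∈ W, z x = c • x :=
  eq_of_singular_lines hQ hd hzO fun u huW hu => exists_smul_of_comm hQ hd hzO hz u huW hu

end Cfsg.Agent.H22.DPi
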